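import Groth.Agent.Perfection.Homeo

/-!
# A scheme with affine perfection is affine
-/

set_option autoImplicit false
set_option linter.unusedSectionVars false
universe u

open CategoryTheory CategoryTheory.Limits AlgebraicGeometry FrobSch TopologicalSpace

namespace Groth.Agent.Perfection

variable {p : ℕ} [Fact p.Prime] {XP X : Scheme.{u}} [IsCharP XP p] {π : XP ⟶ X} [IsCharP X p]
  (hπ : FrobSch.IsPerfection π p)
include hπ

lemma app_eq_pow (U : X.Opens) (a : Γ(X, U)) (k : ℕ) : π.app U (a ^ k) = π.app U a ^ k := map_pow _ _ _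

lemma exists_pow_mem_compact [QuasiSeparatedSpace X] (U : X.Opens) (hU : IsCompact (U : Set X)) :
    ∀ b : Γ(XP, π ⁻¹ᵁ U), ∃ (n : ℕ) (a : Γ(X, U)), π.app U a = b ^ p ^ n := by
  refine compact_open_induction_on U hU ?h₁ ?h₂
  case h₁ =>
    intro b
    have : Subsingleton Γ(XP, π ⁻¹ᵁ (⊥ : X.Opens)) := by
      rw [show π ⁻¹ᵁ (⊥ : X.Opens) = ⊥ from rfl]; infer_instance
    exact ⟨0, 0, Subsingleton.elim _ _⟩
  case h₂ =>
    intro S hS V ih
    intro b
    let res {U₁ U₂ : XP.Opens} (h : U₁ ≤ U₂) := XP.presheaf.map (homOfLE h).op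
    have hl : π ⁻¹ᵁ S ≤ π ⁻¹ᵁ (S ⊔ V.1) := fun x hx => Or.inl hx
    have hr : π ⁻¹ᵁ V.1 ≤ π ⁻¹ᵁ (S ⊔ V.1) := fun x hx => Or.inr hx
    obtain ⟨n₁, a₁, h₁⟩ := ih (res hl b)
    obtain ⟨n₂, a₂, h₂⟩ := (isAffineOpen_preimage_and_powMem hπ V.2).2 (res hr b)
    let n := n₁ + n₂
    obtain ⟨c₁, hc₁⟩ : ∃ c, π.app S c = res hl b ^ p ^ n :=
      ⟨a₁ ^ p ^ n₂, by rw [app_eq_pow hπ, h₁, ← pow_mul, ← pow_add]⟩
    obtain ⟨c₂, hc₂⟩ : ∃ c, π.app V.1 c = res hr b ^ p ^ n :=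
      ⟨a₂ ^ p ^ n₁, by rw [app_eq_pow hπ, h₂, ← pow_mul, ← pow_add, add_comm]⟩
    let d := X.presheaf.map (homOfLE (inf_le_left : S ⊓ V.1 ≤ S)).op c₁ -
      X.presheaf.map (homOfLE (inf_le_right : S ⊓ V.1 ≤ V.1)).op c₂
    have hd : π.app (S ⊓ V.1) d = 0 := by
      rw [map_sub, ← CommRingCat.comp_apply, ← CommRingCat.comp_apply, Scheme.Hom.naturality,
        Scheme.Hom.naturality, CommRingCat.comp_apply, CommRingCat.comp_apply, hc₁, hc₂, map_pow, map_pow]
      simp only [res, ← CommRingCat.comp_apply, ← Functor.map_comp]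
      exact sub_eq_zero.mpr rfl
    obtain ⟨k, hk⟩ := isNilpotent_of_app_eq_zero hπ
      (QuasiSeparatedSpace.inter_isCompact _ _ S.isOpen hS V.1.isOpen V.2.isCompact) hd
    obtain ⟨m, hm⟩ : ∃ m, k ≤ p ^ m := ⟨k, (Nat.lt_pow_self (Fact.out : p.Prime).one_lt).le⟩
    have he : X.presheaf.map (homOfLE (inf_le_left : S ⊓ V.1 ≤ S)).op (c₁ ^ p ^ m) =
        X.presheaf.map (homOfLE (inf_le_right : S ⊓ V.1 ≤ V.1)).op (c₂ ^ p ^ m) := by
      rw [map_pow, map_pow]
      rcases subsingleton_or_nontrivial Γ(X, S ⊓ V.1) with hs | hn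
      · exact Subsingleton.elim _ _
      · have : CharP Γ(X, S ⊓ V.1) p :=
          (CharP.charP_iff_prime_eq_zero Fact.out).2 (natCast_eq_zero_app X p (S ⊓ V.1))
        rw [← sub_eq_zero, ← sub_pow_char_pow]
        exact pow_eq_zero_of_le hm hk
    let U : Bool → X.Opens := fun i => bif i then S else V.1
    let sf : ∀ i, Γ(X, U i) := fun i => match i with | true => c₁ ^ p ^ m | false => c₂ ^ p ^ m
    obtain ⟨a, ha, -⟩ := X.sheaf.existsUnique_gluing' (fun i : ULift.{u} Bool => U i.down) (S ⊔ V.1)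
      (fun i => homOfLE (by rcases i with ⟨⟨⟩⟩; exacts [le_sup_right, le_sup_left]))
      (fun x hx => Or.elim (hx : x ∈ S ∨ x ∈ V.1) (fun h => Opens.mem_iSup.mpr ⟨⟨true⟩, h⟩)
        (fun h => Opens.mem_iSup.mpr ⟨⟨false⟩, h⟩))
      (fun i => sf i.down) (by
        rintro ⟨i⟩ ⟨j⟩
        rcases i with _ | _ <;> rcases j with _ | _
        · rfl
        · show X.presheaf.map _ _ = X.presheaf.map _ _
          have := congrArg (X.presheaf.map (homOfLE (by simp [U, inf_comm] : U false ⊓ U true ≤ S ⊓ V.1)).op) he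
          simp only [← CommRingCat.comp_apply, ← Functor.map_comp] at this
          exact this.symm
        · show X.presheaf.map _ _ = X.presheaf.map _ _
          exact he
        · rfl)
    refine ⟨n + m, a, XP.sheaf.eq_of_locally_eq' (fun i : ULift.{u} Bool => π ⁻¹ᵁ U i.down) _
      (fun i => homOfLE (by rcases i with ⟨⟨⟩⟩; exacts [hr, hl]))
      (fun x hx => Or.elim (hx : π x ∈ S ∨ π x ∈ V.1) (fun h => Opens.mem_iSup.mpr ⟨⟨true⟩, h⟩)
        (fun h => Opens.mem_iSup.mpr ⟨⟨false⟩, h⟩))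
      _ _ fun i => ?_⟩
    show XP.presheaf.map _ (π.app _ a) = XP.presheaf.map _ (b ^ p ^ (n + m))
    have h1 := ha i
    change X.presheaf.map _ a = sf i.down at h1
    have h2 : XP.presheaf.map (homOfLE (π.preimage_mono
        (by rcases i with ⟨⟨⟩⟩; exacts [le_sup_right, le_sup_left] : U i.down ≤ S ⊔ V.1))).op
        (π.app (S ⊔ V.1) a) = π.app (U i.down) (sf i.down) := by
      rw [← h1, ← CommRingCat.comp_apply, ← CommRingCat.comp_apply, Scheme.Hom.naturality]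
      rfl
    refine h2.trans ?_
    rw [map_pow, pow_add, pow_mul]
    rcases i with ⟨⟨⟩⟩
    · show π.app V.1 (c₂ ^ p ^ m) = _
      rw [app_eq_pow hπ, hc₂]
    · show π.app S (c₁ ^ p ^ m) = _
      rw [app_eq_pow hπ, hc₁]

theorem isAffine_of_isAffine [IsAffine XP] : IsAffine X := by
  have hh := isHomeomorph hπ
  have : CompactSpace X := hh.surjective.compactSpace hh.continuous
  have : QuasiSeparatedSpace X := QuasiSeparatedSpace.of_isOpenEmbedding hh.homeomorph.symm.isOpenEmbedding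
  have hex : ∀ b : Γ(XP, ⊤), ∃ (n : ℕ) (a : Γ(X, ⊤)), π.app ⊤ a = b ^ p ^ n :=
    exists_pow_mem_compact hπ ⊤ isCompact_univ
  let T := {a : Γ(X, ⊤) | IsAffineOpen (X.basicOpen a)}
  refine isAffine_of_isAffineOpen_basicOpen T ?_ fun a ha => ha
  have hcov : ∀ y : XP, ∃ a ∈ T, π y ∈ X.basicOpen a := by
    intro y
    obtain ⟨V, hV, hyV, -⟩ := exists_isAffineOpen_mem_and_subset (U := (⊤ : X.Opens)) (x := π y) trivial
    obtain ⟨b, hb, hyb⟩ := (isAffineOpen_top XP).exists_basicOpen_le (V := π ⁻¹ᵁ V) ⟨y, hyV⟩ trivial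
    obtain ⟨n, a, ha⟩ := hex b
    have hpre : π ⁻¹ᵁ X.basicOpen a = XP.basicOpen b := by
      rw [Scheme.preimage_basicOpen, ha]
      exact Scheme.basicOpen_pow _ _ (pow_pos (Fact.out : p.Prime).pos n)
    have hle : X.basicOpen a ≤ V := fun x hx => by
      obtain ⟨z, rfl⟩ := hh.surjective x
      exact hb (hpre.le hx)
    refine ⟨a, ?_, hpre.ge hyb⟩
    show IsAffineOpen (X.basicOpen a)
    rw [← inf_eq_right.mpr hle, ← Scheme.basicOpen_res _ a (homOfLE le_top).op]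
    exact hV.basicOpen _
  by_contra hne
  obtain ⟨m, hm, hle⟩ := Ideal.exists_le_maximal _ hne
  let φ := (π.app ⊤).hom
  have hspec : IsHomeomorph (PrimeSpectrum.comap φ) := PrimeSpectrum.isHomeomorph_comap _ (fun b => by
      obtain ⟨n, a, ha⟩ := hex b
      exact ⟨p ^ n, pow_pos (Fact.out : p.Prime).pos n, a, ha⟩)
    fun a ha => isNilpotent_of_app_eq_zero hπ isCompact_univ ha
  obtain ⟨q, hq⟩ := hspec.surjective ⟨m, hm.isPrime⟩
  have hall : ⨆ b : φ '' T, XP.basicOpen (b : Γ(XP, π ⁻¹ᵁ ⊤)) = ⊤ := by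
    refine top_le_iff.mp fun y _ => ?_
    obtain ⟨a, haT, hya⟩ := hcov y
    refine Opens.mem_iSup.mpr ⟨⟨φ a, a, haT, rfl⟩, ?_⟩
    show y ∈ XP.basicOpen (π.app ⊤ a)
    rw [← Scheme.preimage_basicOpen]
    exact hya
  have htop : Ideal.span (φ '' T) = ⊤ := ((isAffineOpen_top XP).iSup_basicOpen_eq_self_iff).mp hall
  refine q.isPrime.ne_top (top_le_iff.mp (htop.ge.trans (Ideal.span_le.mpr ?_)))
  rintro _ ⟨a, haT, rfl⟩
  have : a ∈ (PrimeSpectrum.comap φ q).asIdeal := hq ▸ hle (Ideal.subset_span haT)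
  exact this

end Groth.Agent.Perfection
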