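import Groth.Prelude.Def_Frob
import Groth.Agent.AWN.Criterion
import Mathlib

/-!
# The structure of perfections of schemes of characteristic `p`

A perfection is affine over affine opens, where it is given by the perfect closure of rings.
-/

set_option autoImplicit false
universe u

open CategoryTheory CategoryTheory.Limits AlgebraicGeometry FrobSch

namespace Groth.Agent.Perfection

set_option linter.unusedSectionVars false
variable {p : ℕ} [Fact p.Prime]

section Alg

lemma pow_pow_injective {L : Type u} [CommRing L] (hL : Function.Bijective fun s : L => s ^ p) (n : ℕ) :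
    Function.Injective fun s : L => s ^ p ^ n := by
  induction n with
  | zero => simp [Function.Injective]
  | succ n ih =>
    intro a b h
    simp only [pow_succ, pow_mul] at h
    exact ih (hL.1 h)

lemma pow_pow_surjective {L : Type u} [CommRing L] (hL : Function.Bijective fun s : L => s ^ p) (n : ℕ)
    (b : L) : ∃ a : L, a ^ p ^ n = b := by
  induction n with
  | zero => exact ⟨b, by simp⟩
  | succ n ih =>
    obtain ⟨a, rfl⟩ := ih
    obtain ⟨c, rfl⟩ := hL.2 a
    exact ⟨c, by rw [pow_succ', pow_mul]⟩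

/-- Every element has a `p`-power in the image. -/
def PowMem (p : ℕ) {A B : Type u} [CommRing A] [CommRing B] (φ : A →+* B) : Prop :=
  ∀ b : B, ∃ (n : ℕ) (a : A), φ a = b ^ p ^ n

lemma PowMem.comp {A B C : Type u} [CommRing A] [CommRing B] [CommRing C] {φ : A →+* B} {ψ : B →+* C}
    (h : PowMem p φ) (h' : PowMem p ψ) : PowMem p (ψ.comp φ) := fun c => by
  obtain ⟨n, b, hb⟩ := h' c
  obtain ⟨m, a, ha⟩ := h b
  exact ⟨n + m, a, by rw [RingHom.comp_apply, ha, map_pow, hb, ← pow_mul, ← pow_add]⟩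

lemma powMem_of_surjective {A B : Type u} [CommRing A] [CommRing B] {φ : A →+* B}
    (h : Function.Surjective φ) : PowMem p φ := fun b =>
  ⟨0, (h b).choose, by rw [pow_zero, pow_one]; exact (h b).choose_spec⟩

lemma existsUnique_lift {R L : Type u} [CommRing R] [CharP R p] [CommRing L] (hpL : (p : L) = 0)
    (hL : Function.Bijective fun s : L => s ^ p) (φ : R →+* L) :
    ∃! ψ : PerfectClosure R p →+* L, ψ.comp (PerfectClosure.of R p) = φ := by
  have hpow := fun x : PerfectClosure R p => IsPRadical.pow_mem (PerfectClosure.of R p) p x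
  refine existsUnique_of_exists_of_unique ?_ fun ψ ψ' h h' => RingHom.ext fun x => ?_
  · rcases subsingleton_or_nontrivial L with hs | hn
    · exact ⟨{ toFun := fun _ => 0, map_one' := Subsingleton.elim _ _, map_mul' := fun _ _ => Subsingleton.elim _ _,
               map_zero' := rfl, map_add' := fun _ _ => Subsingleton.elim _ _ },
        RingHom.ext fun _ => Subsingleton.elim _ _⟩
    · have : CharP L p := (CharP.charP_iff_prime_eq_zero Fact.out).2 hpL
      have : PerfectRing L p := ⟨hL⟩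
      exact ⟨PerfectClosure.lift R p L φ, (PerfectClosure.lift R p L).symm_apply_apply φ⟩
  · obtain ⟨n, r, hr⟩ := hpow x
    apply pow_pow_injective hL n
    show ψ x ^ p ^ n = ψ' x ^ p ^ n
    rw [← map_pow, ← map_pow, ← hr, ← RingHom.comp_apply, h, ← RingHom.comp_apply, h']

/-- The perfect closure has bijective `p`-power map. -/
lemma powBij_perfectClosure (R : Type u) [CommRing R] [CharP R p] :
    Function.Bijective fun s : PerfectClosure R p => s ^ p :=
  (PerfectClosure.instPerfectRing R p).bijective_frobenius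

end Alg

lemma bijective_pow_app {X : Scheme.{u}} [IsCharP X p] (hX : FrobSch.IsPerfect X p) (U : X.Opens) :
    Function.Bijective fun s : Γ(X, U) => s ^ p := by
  have : IsIso (frob X p) := hX
  exact ConcreteCategory.bijective_of_isIso ((frob X p).app U)

lemma frob_toScheme (X : Scheme.{u}) [IsCharP X p] (U : X.Opens) [IsCharP U p] :
    frob U p = frob X p ∣_ U := by
  exact (cancel_mono U.ι).1 ((frob_comp p U.ι).trans (morphismRestrict_ι (frob X p) U).symm)

lemma isPerfect_toScheme {X : Scheme.{u}} [IsCharP X p] (hX : FrobSch.IsPerfect X p) (U : X.Opens)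
    [IsCharP U p] : FrobSch.IsPerfect U p := by
  have : IsIso (frob X p) := hX
  show IsIso (frob U p)
  rw [frob_toScheme X U]
  exact inferInstanceAs (IsIso (frob X p ∣_ U))

lemma isPerfect_of_bijective (R : CommRingCat.{u}) [IsCharP (Spec R) p]
    (h : Function.Bijective fun s : R => s ^ p) : FrobSch.IsPerfect (Spec R) p := by
  show IsIso (frob (Spec R) p)
  let e := (Scheme.ΓSpecIso R).commRingCatIsoToRingEquiv
  have hb : Function.Bijective fun s : Γ(Spec R, ⊤) => s ^ p := by
    refine ⟨fun a b hab => e.injective (h.1 ?_), fun b => ?_⟩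
    · show e a ^ p = e b ^ p
      rw [← map_pow, ← map_pow]
      exact congrArg e hab
    · obtain ⟨a, ha⟩ := h.2 (e b)
      exact ⟨e.symm a, e.injective (by rw [map_pow, e.apply_symm_apply]; exact ha)⟩
  have : IsIso (frob (Spec R) p).appTop := (ConcreteCategory.isIso_iff_bijective _).mpr hb
  obtain ⟨ψ, hψ⟩ := Spec.map_surjective (frob (Spec R) p)
  have hψi : IsIso ψ := by
    have h := Scheme.ΓSpecIso_naturality ψ
    rw [hψ] at h
    have : IsIso ((Scheme.ΓSpecIso R).hom ≫ ψ) := by rw [← h]; infer_instance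
    exact IsIso.of_isIso_comp_left (Scheme.ΓSpecIso R).hom ψ
  rw [← hψ]
  infer_instance

variable {XP X : Scheme.{u}} [IsCharP XP p] {π : XP ⟶ X} (hπ : FrobSch.IsPerfection π p)
include hπ

lemma IsPerfection.restrict (U : X.Opens) [IsCharP (π ⁻¹ᵁ U : XP.Opens) p] :
    FrobSch.IsPerfection (π ∣_ U) p := by
  refine ⟨isPerfect_toScheme hπ.1 _, fun Y _ hY => ⟨fun g g' h => ?_, fun h => ?_⟩⟩
  · rw [← cancel_mono (π ⁻¹ᵁ U).ι]
    refine (hπ.2 Y hY).1 ?_
    show (g ≫ _) ≫ π = (g' ≫ _) ≫ π
    rw [Category.assoc, Category.assoc, ← morphismRestrict_ι, ← Category.assoc, ← Category.assoc]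
    exact congrArg (fun m => m ≫ U.ι) h
  · obtain ⟨g, hg⟩ := (hπ.2 Y hY).2 (h ≫ U.ι)
    dsimp at hg
    have hr : Set.range g ⊆ Set.range (π ⁻¹ᵁ U).ι := by
      rintro _ ⟨y, rfl⟩
      rw [Scheme.Opens.range_ι]
      show π (g y) ∈ U
      rw [← Scheme.Hom.comp_apply, hg]
      exact (h y).2
    refine ⟨IsOpenImmersion.lift (π ⁻¹ᵁ U).ι g hr, ?_⟩
    show _ ≫ _ = h
    rw [← cancel_mono U.ι, Category.assoc, morphismRestrict_ι, ← Category.assoc,
      IsOpenImmersion.lift_fac, hg]

lemma IsPerfection.exists_iso {XP' : Scheme.{u}} [IsCharP XP' p] {π' : XP' ⟶ X}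
    (hπ' : FrobSch.IsPerfection π' p) : ∃ e : XP ≅ XP', e.hom ≫ π' = π := by
  obtain ⟨a, ha⟩ := (hπ'.2 XP hπ.1).2 π
  obtain ⟨b, hb⟩ := (hπ.2 XP' hπ'.1).2 π'
  dsimp at ha hb
  refine ⟨⟨a, b, (hπ.2 XP hπ.1).1 ?_, (hπ'.2 XP' hπ'.1).1 ?_⟩, ha⟩
  · show (a ≫ b) ≫ π = 𝟙 _ ≫ π
    rw [Category.assoc, hb, ha, Category.id_comp]
  · show (b ≫ a) ≫ π' = 𝟙 _ ≫ π'
    rw [Category.assoc, ha, hb, Category.id_comp]

omit hπ in
/-- The model of the perfection of an affine scheme. -/
lemma exists_affine_perfection (V : Scheme.{u}) [IsAffine V] [Nonempty V] [IsCharP V p] :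
    ∃ (VP : Scheme.{u}) (_ : IsCharP VP p) (π₀ : VP ⟶ V),
      FrobSch.IsPerfection π₀ p ∧ IsAffine VP ∧ PowMem p π₀.appTop.hom ∧
        RingHom.ker π₀.appTop.hom ≤ nilradical Γ(V, ⊤) := by
  let R := Γ(V, ⊤)
  have : Nontrivial R := by
    have : Nonempty (⊤ : V.Opens) := ⟨⟨Classical.arbitrary V, trivial⟩⟩
    infer_instance
  have : CharP R p := (CharP.charP_iff_prime_eq_zero Fact.out).2 (IsCharP.natCast_eq_zero (X := V))
  let P := PerfectClosure R p
  let P' : CommRingCat.{u} := CommRingCat.of P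
  let of' : R ⟶ P' := CommRingCat.ofHom (PerfectClosure.of R p)
  let π₀ : Spec P' ⟶ V := Spec.map of' ≫ V.isoSpec.inv
  have hc : IsCharP (Spec P') p := IsCharP.of_hom π₀ p
  have happ : π₀.appTop = of' ≫ (Scheme.ΓSpecIso P').inv := by
    have h1 : V.isoSpec.inv.appTop = (Scheme.ΓSpecIso R).inv := by
      have := congrArg (fun m : Spec R ⟶ Spec R => m.appTop) V.isoSpec.inv_hom_id
      simp only [Scheme.Hom.comp_appTop, Scheme.isoSpec_hom, Scheme.Hom.id_app] at this
      erw [Scheme.toSpecΓ_appTop] at this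
      rw [← cancel_epi (Scheme.ΓSpecIso R).hom, Iso.hom_inv_id]
      exact this
    simp only [π₀, Scheme.Hom.comp_appTop, h1]
    exact (Scheme.ΓSpecIso_inv_naturality of').symm
  have hP : FrobSch.IsPerfect (Spec P') p :=
    isPerfect_of_bijective P' (powBij_perfectClosure R)
  refine ⟨Spec P', hc, π₀, ⟨hP, fun Y _ hY => ?_⟩, inferInstance, ?_, ?_⟩
  · have key := fun φ : R →+* Γ(Y, ⊤) => existsUnique_lift (R := R) (L := Γ(Y, ⊤))
      (IsCharP.natCast_eq_zero (X := Y) (p := p)) (bijective_pow_app hY ⊤) φ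
    refine ⟨fun g g' h => ext_of_isAffine ?_, fun h => ?_⟩
    · have h' := congrArg (fun m : Y ⟶ V => m.appTop) h
      simp only [Scheme.Hom.comp_appTop, happ, Category.assoc] at h'
      rw [← cancel_epi (Scheme.ΓSpecIso P').inv]
      exact CommRingCat.hom_ext ((key _).unique rfl (congrArg CommRingCat.Hom.hom h').symm)
    · obtain ⟨ψ, hψ, -⟩ := key h.appTop.hom
      refine ⟨Y.toSpecΓ ≫ Spec.map (CommRingCat.ofHom ψ : P' ⟶ Γ(Y, ⊤)), ext_of_isAffine ?_⟩
      show (_ ≫ π₀).appTop = _
      have e : (Y.toSpecΓ ≫ Spec.map (CommRingCat.ofHom ψ : P' ⟶ Γ(Y, ⊤))).appTop =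
          (Scheme.ΓSpecIso P').hom ≫ CommRingCat.ofHom ψ := by
        rw [Scheme.Hom.comp_appTop, Scheme.toSpecΓ_appTop, Scheme.ΓSpecIso_naturality]
      rw [Scheme.Hom.comp_appTop, happ, e, Category.assoc, Iso.inv_hom_id_assoc]
      exact CommRingCat.hom_ext hψ
  · rw [happ]
    have h : PowMem p (PerfectClosure.of R p) := fun b => IsPRadical.pow_mem (PerfectClosure.of R p) p b
    exact PowMem.comp h (powMem_of_surjective
      (ConcreteCategory.bijective_of_isIso (Scheme.ΓSpecIso P').inv).2)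
  · intro a ha
    rw [RingHom.mem_ker, happ] at ha
    have h0 : PerfectClosure.of R p a = 0 :=
      (ConcreteCategory.bijective_of_isIso (Scheme.ΓSpecIso P').inv).1 (ha.trans (map_zero _).symm)
    obtain ⟨n, hn⟩ := mem_pNilradical.mp (IsPRadical.ker_le (PerfectClosure.of R p) p (RingHom.mem_ker.mpr h0))
    exact ⟨p ^ n, hn⟩

variable [IsCharP X p]

theorem isAffineOpen_preimage_and_powMem {V : X.Opens} (hV : IsAffineOpen V) :
    IsAffineOpen (π ⁻¹ᵁ V) ∧ PowMem p (π.app V).hom := by
  have hcV : IsCharP V p := IsCharP.of_hom V.ι p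
  have hcP : IsCharP (π ⁻¹ᵁ V : XP.Opens) p := IsCharP.of_hom (π ⁻¹ᵁ V).ι p
  rcases isEmpty_or_nonempty V with hE | hN
  · have hb : π ⁻¹ᵁ V = ⊥ := by
      ext x
      simp only [TopologicalSpace.Opens.coe_bot, Set.mem_empty_iff_false, iff_false]
      exact fun hx => hE.false ⟨π x, hx⟩
    refine ⟨hb ▸ isAffineOpen_bot _, fun b => ⟨0, 0, ?_⟩⟩
    have : Subsingleton Γ(XP, π ⁻¹ᵁ V) := by rw [hb]; infer_instance
    exact Subsingleton.elim _ _
  · have : IsAffine V := hV
    obtain ⟨VP, hVP, π₀, h₀, ha, hpow, -⟩ := exists_affine_perfection (p := p) (V : Scheme.{u})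
    obtain ⟨e, he⟩ := IsPerfection.exists_iso (IsPerfection.restrict hπ V) h₀
    refine ⟨IsAffine.of_isIso e.hom, fun b => ?_⟩
    have h1 : PowMem p (π ∣_ V).appTop.hom := by
      have : IsIso e.hom.appTop := inferInstanceAs (IsIso (e.hom.app ⊤))
      rw [← he, Scheme.Hom.comp_appTop]
      exact PowMem.comp hpow (powMem_of_surjective (ConcreteCategory.bijective_of_isIso _).2)
    rw [morphismRestrict_appTop] at h1
    have key : ∀ U : X.Opens, U = V → PowMem p (π.app U).hom → PowMem p (π.app V).hom := by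
      rintro U rfl h; exact h
    refine key _ V.ι_image_top ?_ b
    intro c
    obtain ⟨n, a, ha⟩ := h1 (XP.presheaf.map (eqToHom (image_morphismRestrict_preimage π V ⊤)).op c)
    refine ⟨n, a, (ConcreteCategory.bijective_of_isIso
      (XP.presheaf.map (eqToHom (image_morphismRestrict_preimage π V ⊤)).op)).1 ?_⟩
    rw [map_pow]
    exact ha

end Groth.Agent.Perfection
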