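import Groth.Agent.Perfection.Sch
import Groth.Agent.Rigidity.Basic

/-!
# Immersions and étale morphisms under perfection
-/

set_option autoImplicit false
set_option linter.unusedSectionVars false
universe u

open CategoryTheory CategoryTheory.Limits AlgebraicGeometry FrobSch

namespace Groth.Agent.Perfection

variable {p : ℕ} [Fact p.Prime] {X Y XP YP : Scheme.{u}}
  [IsCharP X p] [IsCharP Y p] [IsCharP XP p] [IsCharP YP p] {πX : XP ⟶ X} {πY : YP ⟶ Y}
  (hX : FrobSch.IsPerfection πX p) (hY : FrobSch.IsPerfection πY p)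
  {f : X ⟶ Y} {fP : XP ⟶ YP} (w : fP ≫ πY = πX ≫ f)

/-- The absolute Frobenius is universally injective and surjective. -/
lemma universallyInjective_frob (P : Scheme.{u}) [IsCharP P p] : UniversallyInjective (frob P p) := by
  refine ((tfae_universallyInjective (frob P p)).out 1 0).mp ?_
  intro K _ g g' e
  let L := AlgebraicClosure K
  let j : Spec (.of L) ⟶ Spec (.of K) := Spec.map (CommRingCat.ofHom (algebraMap K L))
  have : Flat j := by
    rw [HasRingHomProperty.Spec_iff (P := @Flat)]
    exact RingHom.flat_algebraMap_iff.mpr inferInstance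
  have : Surjective j := ⟨fun x => ⟨default, Subsingleton.elim _ _⟩⟩
  have : Epi j := Flat.epi_of_flat_of_surjective j
  refine (cancel_epi j).mp ?_
  have hL : IsCharP (Spec (.of L)) p := IsCharP.of_hom (j ≫ g) p
  have hpL : (p : L) = 0 := by
    have := congrArg (Scheme.ΓSpecIso (.of L)).hom (IsCharP.natCast_eq_zero (X := Spec (.of L)) (p := p))
    rwa [map_natCast, map_zero] at this
  have : CharP L p := (CharP.charP_iff_prime_eq_zero Fact.out).2 hpL
  have : PerfectRing L p := PerfectField.toPerfectRing p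
  have hP : FrobSch.IsPerfect (Spec (.of L)) p :=
    isPerfect_of_bijective (.of L) (PerfectRing.bijective_frobenius (R := L) (p := p))
  have : IsIso (frob (Spec (.of L)) p) := hP
  refine (cancel_epi (frob (Spec (.of L)) p)).mp ?_
  rw [frob_comp p (j ≫ g), frob_comp p (j ≫ g'), Category.assoc, Category.assoc]
  exact congrArg (j ≫ ·) e

theorem isPerfect_of_etale {P Q : Scheme.{u}} [IsCharP P p] [IsCharP Q p] (q : P ⟶ Q) [Etale q]
    (hQ : FrobSch.IsPerfect Q p) : FrobSch.IsPerfect P p := by
  have : IsIso (frob Q p) := hQ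
  have : Etale (frob P p ≫ q) := by rw [frob_comp p q]; infer_instance
  have : Etale (frob P p) := Etale.of_comp (frob P p) q
  have := universallyInjective_frob (p := p) P
  have := Groth.Agent.Rigidity.isOpenImmersion_of_etale_of_universallyInjective (frob P p)
  have : Surjective (frob P p) := ⟨fun x => ⟨x, rfl⟩⟩
  exact isIso_iff_isOpenImmersion_and_surjective (frob P p) |>.mpr ⟨inferInstance, inferInstance⟩

include hX hY w

theorem isPullback_of_etale [Etale f] : IsPullback fP πX πY f := by
  let P := pullback πY f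
  have : IsCharP P p := IsCharP.of_hom (pullback.fst πY f) p
  have hP : FrobSch.IsPerfect P p := isPerfect_of_etale (pullback.fst πY f) hY.1
  have hperf : FrobSch.IsPerfection (pullback.snd πY f) p := by
    refine ⟨hP, fun Z _ hZ => ⟨fun g g' h => pullback.hom_ext ((hY.2 Z hZ).1 ?_) h, fun h => ?_⟩⟩
    · show (g ≫ _) ≫ πY = (g' ≫ _) ≫ πY
      rw [Category.assoc, Category.assoc, pullback.condition, ← Category.assoc, ← Category.assoc]
      exact congrArg (· ≫ f) h
    · obtain ⟨g, hg⟩ := (hY.2 Z hZ).2 (h ≫ f)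
      exact ⟨pullback.lift g h hg, pullback.lift_snd _ _ _⟩
  obtain ⟨e, he⟩ := IsPerfection.exists_iso hX hperf
  have he' : e.hom ≫ pullback.fst πY f = fP := by
    refine hom_ext hX hY w ?_ hX.1
    rw [Category.assoc, pullback.condition, ← Category.assoc, he]
  exact (IsPullback.of_hasPullback πY f).of_iso e.symm (Iso.refl _) (Iso.refl _) (Iso.refl _)
    (by simp [← he']) (by simp [← he]) (by simp) (by simp)

theorem isImmersion [IsImmersion f] : IsImmersion fP := by
  let U := f.coborderRange
  have : IsCharP U p := IsCharP.of_hom U.ι p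
  have : IsCharP (πY ⁻¹ᵁ U : YP.Opens) p := IsCharP.of_hom (πY ⁻¹ᵁ U).ι p
  have hr : Set.range fP ⊆ Set.range (πY ⁻¹ᵁ U).ι := by
    rintro _ ⟨x, rfl⟩
    rw [Scheme.Opens.range_ι]
    show πY (fP x) ∈ U
    rw [apply_eq w, ← f.liftCoborder_ι, Scheme.Hom.comp_apply]
    exact (f.liftCoborder (πX x)).2
  let g := IsOpenImmersion.lift (πY ⁻¹ᵁ U).ι fP hr
  have hg : g ≫ (πY ⁻¹ᵁ U).ι = fP := IsOpenImmersion.lift_fac _ _ _
  have hgw : g ≫ (πY ∣_ U) = πX ≫ f.liftCoborder := by
    rw [← cancel_mono U.ι, Category.assoc, morphismRestrict_ι, ← Category.assoc, hg, w,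
      Category.assoc, f.liftCoborder_ι]
  have : IsClosedImmersion g := isClosedImmersion hX (IsPerfection.restrict hY U) hgw
  rw [← hg]
  infer_instance

end Groth.Agent.Perfection
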