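import Groth.Agent.Perfection.Basic

/-!
# A perfection is a universal homeomorphism
-/

set_option autoImplicit false
set_option linter.unusedSectionVars false
universe u

open CategoryTheory CategoryTheory.Limits AlgebraicGeometry FrobSch

namespace Groth.Agent.Perfection

variable {p : ℕ} [Fact p.Prime]

lemma homInj_of_powMem {A B : Type u} [CommRing A] [CommRing B] (hp : (p : B) = 0) {φ : A →+* B}
    (h : PowMem p φ) : AWN.HomInj φ := by
  intro K _ g g' hgg
  ext b
  obtain ⟨n, a, ha⟩ := h b
  have hpK : (p : K) = 0 := by rw [← map_natCast g, hp, map_zero]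
  have : CharP K p := (CharP.charP_iff_prime_eq_zero Fact.out).2 hpK
  have : ExpChar K p := ExpChar.prime Fact.out
  have e : g b ^ p ^ n = g' b ^ p ^ n := by
    rw [← map_pow, ← map_pow, ← ha]; exact RingHom.congr_fun hgg a
  exact iterateFrobenius_inj K p n e

lemma isIntegral_of_powMem {A B : Type u} [CommRing A] [CommRing B] {φ : A →+* B}
    (h : PowMem p φ) : φ.IsIntegral := fun b => by
  obtain ⟨n, a, ha⟩ := h b
  algebraize [φ]
  exact IsIntegral.of_pow (pow_pos (Fact.out : p.Prime).pos n) (ha ▸ isIntegral_algebraMap)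

variable {XP X : Scheme.{u}} [IsCharP XP p] {π : XP ⟶ X} [IsCharP X p]
  (hπ : FrobSch.IsPerfection π p)
include hπ

lemma isIntegralHom : IsIntegralHom π := by
  have : IsAffineHom π := ⟨fun U hU => (isAffineOpen_preimage_and_powMem hπ hU).1⟩
  exact ⟨fun U hU => isIntegral_of_powMem (isAffineOpen_preimage_and_powMem hπ hU).2⟩

lemma surjective_and_universallyInjective : Surjective π ∧ UniversallyInjective π := by
  have loc : ∀ V : X.affineOpens, Surjective (π ∣_ V.1) ∧ UniversallyInjective (π ∣_ V.1) := by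
    intro V
    have : IsAffine (V.1 : Scheme.{u}) := V.2
    have hcV : IsCharP V.1 p := IsCharP.of_hom V.1.ι p
    have hcP : IsCharP (π ⁻¹ᵁ V.1 : XP.Opens) p := IsCharP.of_hom (π ⁻¹ᵁ V.1).ι p
    rcases isEmpty_or_nonempty (V.1 : Scheme.{u}) with hE | hN
    · have : IsEmpty (π ⁻¹ᵁ V.1 : Scheme.{u}) := Function.isEmpty (π ∣_ V.1)
      have : IsIso (π ∣_ V.1) := inferInstance
      exact ⟨inferInstance, inferInstance⟩
    · obtain ⟨VP, hVP, π₀, h₀, hVa, hpow, hker⟩ := exists_affine_perfection (p := p) (V.1 : Scheme.{u})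
      obtain ⟨e, he⟩ := IsPerfection.exists_iso (IsPerfection.restrict hπ V.1) h₀
      rw [← he]
      have hh : IsHomeomorph (PrimeSpectrum.comap π₀.appTop.hom) :=
        PrimeSpectrum.isHomeomorph_comap _ (fun b => by
          obtain ⟨n, a, ha⟩ := hpow b
          exact ⟨p ^ n, pow_pos (Fact.out : p.Prime).pos n, a, ha⟩) hker
      have hS : Surjective (Spec.map π₀.appTop) := ⟨hh.surjective⟩
      have hI : UniversallyInjective (Spec.map π₀.appTop) :=
        (AWN.universallyInjective_spec_iff π₀.appTop.hom).mpr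
          (homInj_of_powMem (IsCharP.natCast_eq_zero (X := VP)) hpow)
      have e2 : π₀ = VP.isoSpec.hom ≫ Spec.map π₀.appTop ≫ (V.1 : Scheme.{u}).isoSpec.inv := by
        rw [Scheme.isoSpec_hom_naturality_assoc, Iso.hom_inv_id, Category.comp_id]
      rw [e2]
      exact ⟨inferInstance, MorphismProperty.comp_mem _ _ _ inferInstance (MorphismProperty.comp_mem _ _ _
        inferInstance (MorphismProperty.comp_mem _ _ _ hI inferInstance))⟩
  exact ⟨(IsZariskiLocalAtTarget.iff_of_iSup_eq_top _ (iSup_affineOpens_eq_top X)).mpr fun V => (loc V).1,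
    (IsZariskiLocalAtTarget.iff_of_iSup_eq_top _ (iSup_affineOpens_eq_top X)).mpr fun V => (loc V).2⟩

theorem isUnivHomeo : FlatMor.IsUnivHomeo π :=
  (AWN.isUnivHomeo_iff π).mpr ⟨isIntegralHom hπ, (surjective_and_universallyInjective hπ).2,
    (surjective_and_universallyInjective hπ).1⟩

theorem isHomeomorph : IsHomeomorph π := AWN.isHomeomorph_of_univHomeo (isUnivHomeo hπ)

/-- The kernel of a perfection is nil. -/
lemma isNilpotent_of_app_eq_zero {U : X.Opens} (hU : IsCompact (U : Set X)) {a : Γ(X, U)}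
    (ha : π.app U a = 0) : IsNilpotent a := by
  rw [Scheme.isNilpotent_iff_basicOpen_eq_bot_of_isCompact hU]
  have h : π ⁻¹ᵁ X.basicOpen a = ⊥ := by
    rw [Scheme.preimage_basicOpen, ha, Scheme.basicOpen_zero]
  ext x
  simp only [TopologicalSpace.Opens.coe_bot, Set.mem_empty_iff_false, iff_false]
  intro hx
  obtain ⟨y, rfl⟩ := (isHomeomorph hπ).surjective x
  exact (h.le hx : y ∈ (⊥ : XP.Opens))

end Groth.Agent.Perfection
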