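import Groth.Agent.Perfection.Affine

/-!
# Properties of morphisms and their perfections
-/

set_option autoImplicit false
set_option linter.unusedSectionVars false
universe u

open CategoryTheory CategoryTheory.Limits AlgebraicGeometry FrobSch TopologicalSpace

namespace Groth.Agent.Perfection

variable {p : ℕ} [Fact p.Prime] {X Y XP YP : Scheme.{u}}
  [IsCharP X p] [IsCharP Y p] [IsCharP XP p] [IsCharP YP p] {πX : XP ⟶ X} {πY : YP ⟶ Y}
  (hX : FrobSch.IsPerfection πX p) (hY : FrobSch.IsPerfection πY p)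
  {f : X ⟶ Y} {fP : XP ⟶ YP} (w : fP ≫ πY = πX ≫ f)
include w

lemma apply_eq (x : XP) : πY (fP x) = f (πX x) := by
  rw [← Scheme.Hom.comp_apply, w, Scheme.Hom.comp_apply]

lemma preimage_preimage_eq (U : Y.Opens) : fP ⁻¹ᵁ (πY ⁻¹ᵁ U) = πX ⁻¹ᵁ (f ⁻¹ᵁ U) :=
  Opens.ext (Set.ext fun x => by
    show πY (fP x) ∈ U ↔ f (πX x) ∈ U
    rw [apply_eq w])

include hX hY

theorem quasiCompact_iff : QuasiCompact f ↔ QuasiCompact fP := by
  have hx := isHomeomorph hX
  have hy := isHomeomorph hY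
  have key : ∀ V : Set Y, fP ⁻¹' (πY ⁻¹' V) = πX ⁻¹' (f ⁻¹' V) := fun V => Set.ext fun x => by
    simp only [Set.mem_preimage, apply_eq w]
  refine ⟨fun h => ⟨fun U hU hU' => ?_⟩, fun h => ⟨fun V hV hV' => ?_⟩⟩
  · have e : U = πY ⁻¹' (πY '' U) := (Set.preimage_image_eq U hy.injective).symm
    rw [e, key]
    exact hx.homeomorph.isCompact_preimage.mpr
      (QuasiCompact.isCompact_preimage (f := f) _ (hy.isOpenMap U hU) (hU'.image hy.continuous))
  · have := QuasiCompact.isCompact_preimage (f := fP) _ (hV.preimage hy.continuous) (hy.homeomorph.isCompact_preimage.mpr hV')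
    rw [key] at this
    exact hx.homeomorph.isCompact_preimage.mp this

theorem quasiSeparated_iff : QuasiSeparated f ↔ QuasiSeparated fP := by
  have hx := isHomeomorph hX
  rw [HasAffineProperty.iff_of_iSup_eq_top (P := @QuasiSeparated) (f := f) (fun U : Y.affineOpens => U) (iSup_affineOpens_eq_top Y),
    HasAffineProperty.iff_of_iSup_eq_top (P := @QuasiSeparated) (f := fP)
      (fun U : Y.affineOpens => (⟨πY ⁻¹ᵁ U.1, (isAffineOpen_preimage_and_powMem hY U.2).1⟩ : YP.affineOpens))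
      (by show ⨆ U : Y.affineOpens, πY ⁻¹ᵁ U.1 = ⊤
          rw [← Scheme.Hom.preimage_iSup, iSup_affineOpens_eq_top]; rfl)]
  refine forall_congr' fun U => ?_
  show QuasiSeparatedSpace ↑((f ⁻¹ᵁ U.1 : X.Opens) : Set X) ↔
    QuasiSeparatedSpace ↑((fP ⁻¹ᵁ (πY ⁻¹ᵁ U.1) : XP.Opens) : Set XP)
  rw [preimage_preimage_eq w, ← isQuasiSeparated_iff_quasiSeparatedSpace _ (Opens.isOpen _),
    ← isQuasiSeparated_iff_quasiSeparatedSpace _ (Opens.isOpen _),
    hx.isOpenEmbedding.isQuasiSeparated_iff]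
  show IsQuasiSeparated ((f ⁻¹ᵁ U.1 : X.Opens) : Set X) ↔
    IsQuasiSeparated (πX '' (πX ⁻¹' ((f ⁻¹ᵁ U.1 : X.Opens) : Set X)))
  rw [Set.image_preimage_eq _ hx.surjective]

theorem isAffineHom_iff : IsAffineHom f ↔ IsAffineHom fP := by
  rw [HasAffineProperty.iff_of_iSup_eq_top (P := @IsAffineHom) (f := f) (fun U : Y.affineOpens => U) (iSup_affineOpens_eq_top Y),
    HasAffineProperty.iff_of_iSup_eq_top (P := @IsAffineHom) (f := fP)
      (fun U : Y.affineOpens => (⟨πY ⁻¹ᵁ U.1, (isAffineOpen_preimage_and_powMem hY U.2).1⟩ : YP.affineOpens))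
      (by show ⨆ U : Y.affineOpens, πY ⁻¹ᵁ U.1 = ⊤
          rw [← Scheme.Hom.preimage_iSup, iSup_affineOpens_eq_top]; rfl)]
  refine forall_congr' fun U => ?_
  show IsAffineOpen (f ⁻¹ᵁ U.1) ↔ IsAffineOpen (fP ⁻¹ᵁ (πY ⁻¹ᵁ U.1))
  rw [preimage_preimage_eq w]
  refine ⟨fun h => (isAffineOpen_preimage_and_powMem hX h).1, fun h => ?_⟩
  have : IsCharP (f ⁻¹ᵁ U.1 : X.Opens) p := IsCharP.of_hom (f ⁻¹ᵁ U.1).ι p
  have : IsCharP (πX ⁻¹ᵁ (f ⁻¹ᵁ U.1) : XP.Opens) p := IsCharP.of_hom (πX ⁻¹ᵁ (f ⁻¹ᵁ U.1)).ι p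
  have : IsAffine (πX ⁻¹ᵁ (f ⁻¹ᵁ U.1) : XP.Opens) := h
  exact isAffine_of_isAffine (IsPerfection.restrict hX (f ⁻¹ᵁ U.1))

theorem universallyClosed_iff : UniversallyClosed f ↔ UniversallyClosed fP := by
  have := isIntegralHom hX
  have := isIntegralHom hY
  have := (surjective_and_universallyInjective hX).1
  refine ⟨fun h => ?_, fun h => ?_⟩
  · have : UniversallyClosed (fP ≫ πY) := by rw [w]; infer_instance
    exact UniversallyClosed.of_comp_of_isSeparated fP πY
  · have : UniversallyClosed (πX ≫ f) := by rw [← w]; infer_instance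
    exact UniversallyClosed.of_comp_surjective πX f

theorem surjective_iff : Surjective f ↔ Surjective fP := by
  refine ⟨fun h => ⟨fun y => ?_⟩, fun h => ⟨fun y => ?_⟩⟩
  · obtain ⟨x, hx⟩ := f.surjective (πY y)
    obtain ⟨x', rfl⟩ := (isHomeomorph hX).surjective x
    exact ⟨x', (isHomeomorph hY).injective ((apply_eq w x').trans hx)⟩
  · obtain ⟨y', rfl⟩ := (isHomeomorph hY).surjective y
    obtain ⟨x', rfl⟩ := fP.surjective y'
    exact ⟨πX x', (apply_eq w x').symm⟩

theorem isUnivHomeo_iff : FlatMor.IsUnivHomeo f ↔ FlatMor.IsUnivHomeo fP := by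
  have hi := isIntegralHom hY
  refine ⟨fun h => ?_, fun h X' Y' i j g hP => ?_⟩
  · obtain ⟨h1, h2, h3⟩ := (AWN.isUnivHomeo_iff f).mp h
    have := isIntegralHom hX
    have hc : IsIntegralHom (fP ≫ πY) := by rw [w]; infer_instance
    have : IsAffineHom fP := IsAffineHom.of_comp fP πY
    have : UniversallyClosed fP := UniversallyClosed.of_comp_of_isSeparated fP πY
    refine (AWN.isUnivHomeo_iff fP).mpr
      ⟨IsIntegralHom.iff_universallyClosed_and_isAffineHom.mpr ⟨‹_›, ‹_›⟩, ?_, (surjective_iff hX hY w).mp h3⟩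
    have hu : UniversallyInjective (πX ≫ f) :=
      MorphismProperty.comp_mem _ _ _ (surjective_and_universallyInjective hX).2 h2
    rw [← w] at hu
    refine ((tfae_universallyInjective fP).out 1 0).mp ?_
    intro K _ g g' e
    have hu' : ∀ (K : Type u) [Field K], Function.Injective (fun g : Spec (.of K) ⟶ XP => g ≫ fP ≫ πY) :=
      ((tfae_universallyInjective (fP ≫ πY)).out 0 1).mp hu
    refine hu' K ?_
    show g ≫ fP ≫ πY = g' ≫ fP ≫ πY
    rw [← Category.assoc, ← Category.assoc]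
    exact congrArg (· ≫ πY) e
  · have hu : FlatMor.IsUnivHomeo (πX ≫ f) := by
      rw [← w]
      obtain ⟨a1, a2, a3⟩ := (AWN.isUnivHomeo_iff fP).mp h
      obtain ⟨b1, b2, b3⟩ := (AWN.isUnivHomeo_iff πY).mp (isUnivHomeo hY)
      exact (AWN.isUnivHomeo_iff _).mpr ⟨inferInstance, MorphismProperty.comp_mem _ _ _ a2 b2, inferInstance⟩
    have sq := IsPullback.of_hasPullback i πX
    have h1 : IsHomeomorph (pullback.fst i πX) := isUnivHomeo hX _ _ _ sq
    have h2 : IsHomeomorph (pullback.fst i πX ≫ g) := hu _ _ _ (sq.paste_horiz hP)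
    show IsHomeomorph g
    have e : (⇑g : X' → Y') = ⇑(pullback.fst i πX ≫ g) ∘ h1.homeomorph.symm := by
      funext z
      obtain ⟨z', rfl⟩ := h1.surjective z
      rw [Function.comp_apply]
      have : h1.homeomorph.symm (pullback.fst i πX z') = z' := h1.homeomorph.symm_apply_apply z'
      rw [this, Scheme.Hom.comp_apply]
    rw [e]
    exact h2.comp h1.homeomorph.symm.isHomeomorph

set_option backward.isDefEq.respectTransparency false in
theorem isSeparated_iff : IsSeparated f ↔ IsSeparated fP := by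
  have := isIntegralHom hX
  have := isIntegralHom hY
  obtain ⟨hXs, hXi⟩ := surjective_and_universallyInjective hX
  obtain ⟨hYs, hYi⟩ := surjective_and_universallyInjective hY
  have w' : fP ≫ πY = πX ≫ f := w
  let θ : pullback fP fP ⟶ pullback f f := pullback.map fP fP f f πX πX πY w' w'
  let a : pullback fP fP ⟶ pullback (fP ≫ πY) (fP ≫ πY) := pullback.mapDesc fP fP πY
  let b : pullback (fP ≫ πY) (fP ≫ πY) ⟶ pullback f f :=
    pullback.map (fP ≫ πY) (fP ≫ πY) f f πX πX (𝟙 Y) (by simpa using w') (by simpa using w')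
  have hθ : θ = a ≫ b := by apply pullback.hom_ext <;> simp [θ, a, b, pullback.mapDesc, pullback.map]
  have sqa := pullback_map_diagonal_isPullback fP fP πY
  have haI : IsClosedImmersion a := MorphismProperty.of_isPullback sqa inferInstance
  have haS : Surjective a :=
    MorphismProperty.of_isPullback sqa ((UniversallyInjective.iff_diagonal πY).mp hYi)
  have hb1 : IsIntegralHom b :=
    MorphismProperty.pullbackMap (P := @IsIntegralHom) ‹_› ‹_› w' w'
  have hb2 : UniversallyInjective b :=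
    MorphismProperty.pullbackMap (P := @UniversallyInjective) hXi hXi w' w'
  have hb3 : Surjective b :=
    MorphismProperty.pullbackMap (P := @Surjective) hXs hXs w' w'
  have hh : IsHomeomorph θ := AWN.isHomeomorph_of_univHomeo ((AWN.isUnivHomeo_iff θ).mpr (by
    rw [hθ]
    exact ⟨inferInstance, MorphismProperty.comp_mem _ _ _ inferInstance hb2, inferInstance⟩))
  have hd : pullback.diagonal fP ≫ θ = πX ≫ pullback.diagonal f := by
    apply pullback.hom_ext <;> simp [θ, pullback.map]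
  have hr : θ '' Set.range (pullback.diagonal fP) = Set.range (pullback.diagonal f) := by
    rw [← Set.range_comp]
    show Set.range (fun x => θ (pullback.diagonal fP x)) = _
    simp only [← Scheme.Hom.comp_apply, hd]
    show Set.range (fun x => (πX ≫ pullback.diagonal f) x) = _
    simp only [Scheme.Hom.comp_apply]
    exact (isHomeomorph hX).surjective.range_comp _
  have key : ∀ {A B : Scheme.{u}} (h : A ⟶ B), IsSeparated h ↔ IsClosed (Set.range (pullback.diagonal h)) :=
    fun h => ⟨fun _ => (pullback.diagonal h).isClosedEmbedding.isClosed_range,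
      fun hc => ⟨.of_isPreimmersion _ hc⟩⟩
  rw [key, key, ← hr]
  exact hh.isClosedEmbedding.isClosed_iff_image_isClosed.symm

theorem hom_ext {g : XP ⟶ YP} (hg : g ≫ πY = πX ≫ f)
    (hXP : FrobSch.IsPerfect XP p) : g = fP :=
  (hY.2 XP hXP).1 (hg.trans w.symm)

theorem isOpenImmersion [IsOpenImmersion f] : IsOpenImmersion fP := by
  let U := f.opensRange
  have : IsCharP (πY ⁻¹ᵁ U : YP.Opens) p := IsCharP.of_hom (πY ⁻¹ᵁ U).ι p
  let e0 : X ≅ U.toScheme := f.isoOpensRange
  have hc : FrobSch.IsPerfection (πX ≫ e0.hom) p := by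
    refine ⟨hX.1, fun Z _ hZ => ⟨fun g g' h => (hX.2 Z hZ).1 ?_, fun h => ?_⟩⟩
    · show g ≫ πX = g' ≫ πX
      rw [← cancel_mono e0.hom, Category.assoc, Category.assoc]
      exact h
    · obtain ⟨g, hg⟩ := (hX.2 Z hZ).2 (h ≫ e0.inv)
      dsimp at hg
      refine ⟨g, ?_⟩
      show g ≫ πX ≫ e0.hom = h
      rw [← Category.assoc, hg, Category.assoc, e0.inv_hom_id, Category.comp_id]
  obtain ⟨e, he⟩ := IsPerfection.exists_iso hc (IsPerfection.restrict hY U)
  have : (e.hom ≫ (πY ⁻¹ᵁ U).ι) = fP := by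
    refine hom_ext hX hY w ?_ hX.1
    rw [Category.assoc, ← morphismRestrict_ι, ← Category.assoc, he, Category.assoc,
      f.isoOpensRange_hom_ι]
  rw [← this]
  infer_instance

end Groth.Agent.Perfection
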