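import Groth.Agent.Perfection.Etale

/-!
# The absolute and the relative Frobenius are universal homeomorphisms
-/

set_option autoImplicit false
set_option linter.unusedSectionVars false
universe u

open CategoryTheory CategoryTheory.Limits AlgebraicGeometry FrobSch

namespace Groth.Agent.Perfection

variable {p : ℕ} [Fact p.Prime]

lemma isIntegralHom_frob (P : Scheme.{u}) [IsCharP P p] : IsIntegralHom (frob P p) := by
  have : IsAffineHom (frob P p) := ⟨fun U hU => by rw [frob_preimage]; exact hU⟩
  exact ⟨fun U _ => isIntegral_of_powMem (p := p) fun b => ⟨1, b, by rw [pow_one]; exact frob_app P p U b⟩⟩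

lemma isUnivHomeo_frob (P : Scheme.{u}) [IsCharP P p] : FlatMor.IsUnivHomeo (frob P p) :=
  (AWN.isUnivHomeo_iff _).mpr ⟨isIntegralHom_frob P, universallyInjective_frob P, ⟨fun x => ⟨x, rfl⟩⟩⟩

variable {X S : Scheme.{u}} [IsCharP S p] (f : X ⟶ S)

theorem isUnivHomeo_relFrob : FlatMor.IsUnivHomeo (relFrob f p) := by
  have : IsCharP X p := IsCharP.of_hom f p
  let π := pullback.fst f (frob S p)
  have hπ : relFrob f p ≫ π = frob X p := relFrob_fst f p
  obtain ⟨h1, h2, h3⟩ := (AWN.isUnivHomeo_iff _).mp (isUnivHomeo_frob (p := p) S)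
  have : IsIntegralHom π := MorphismProperty.pullback_fst f (frob S p) h1
  have : UniversallyInjective π := MorphismProperty.pullback_fst f (frob S p) h2
  have hc : IsIntegralHom (relFrob f p ≫ π) := by rw [hπ]; exact isIntegralHom_frob X
  have : IsAffineHom (relFrob f p) := IsAffineHom.of_comp _ π
  have : UniversallyClosed (relFrob f p) := UniversallyClosed.of_comp_of_isSeparated _ π
  refine (AWN.isUnivHomeo_iff _).mpr ⟨IsIntegralHom.iff_universallyClosed_and_isAffineHom.mpr ⟨‹_›, ‹_›⟩, ?_, ⟨fun z => ⟨π z, ?_⟩⟩⟩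
  · refine ((tfae_universallyInjective (relFrob f p)).out 1 0).mp ?_
    intro K _ g g' e
    have hu : ∀ (K : Type u) [Field K], Function.Injective (fun g : Spec (.of K) ⟶ X => g ≫ frob X p) :=
      ((tfae_universallyInjective (frob X p)).out 0 1).mp (universallyInjective_frob X)
    refine hu K ?_
    show g ≫ frob X p = g' ≫ frob X p
    rw [← hπ, ← Category.assoc, ← Category.assoc]
    exact congrArg (· ≫ π) e
  · exact π.injective (by rw [← Scheme.Hom.comp_apply, hπ, frob_apply])

theorem isFinite_relFrob [LocallyOfFiniteType f] : IsFinite (relFrob f p) := by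
  have := ((AWN.isUnivHomeo_iff _).mp (isUnivHomeo_relFrob (p := p) f)).1
  have : LocallyOfFiniteType (relFrob f p ≫ pullback.snd f (frob S p)) := by rw [relFrob_snd]; infer_instance
  have : LocallyOfFiniteType (relFrob f p) := locallyOfFiniteType_of_comp _ (pullback.snd f (frob S p))
  exact (IsFinite.iff_isIntegralHom_and_locallyOfFiniteType _).mpr ⟨‹_›, ‹_›⟩

end Groth.Agent.Perfection
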