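import Groth.Agent.Perfection.Basic

/-!
# Closed immersions and flatness under perfection
-/

set_option autoImplicit false
set_option linter.unusedSectionVars false
universe u

open CategoryTheory CategoryTheory.Limits AlgebraicGeometry FrobSch

namespace Groth.Agent.Perfection

variable {p : ℕ} [Fact p.Prime]

lemma surjective_of_surjective {A B A' B' : Type u} [CommRing A] [CommRing B] [CommRing A'] [CommRing B']
    {φ : A →+* B} {φ' : A' →+* B'} {α : A →+* A'} {β : B →+* B'} (hsq : φ'.comp α = β.comp φ)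
    (hA : Function.Bijective fun s : A' => s ^ p) (hB : Function.Bijective fun s : B' => s ^ p)
    (hβ : PowMem p β) (hφ : Function.Surjective φ) : Function.Surjective φ' := fun b => by
  obtain ⟨n, x, hx⟩ := hβ b
  obtain ⟨c, rfl⟩ := hφ x
  obtain ⟨d, hd⟩ := pow_pow_surjective hA n (α c)
  refine ⟨d, pow_pow_injective hB n ?_⟩
  show φ' d ^ p ^ n = b ^ p ^ n
  rw [← map_pow, hd, ← hx]
  exact RingHom.congr_fun hsq c

lemma sum_pow_pow {R ι : Type*} [CommRing R] (hp : (p : R) = 0) (s : Finset ι) (f : ι → R) (n : ℕ) :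
    (∑ i ∈ s, f i) ^ p ^ n = ∑ i ∈ s, f i ^ p ^ n := by
  rcases subsingleton_or_nontrivial R with h | h
  · exact Subsingleton.elim _ _
  · have : CharP R p := (CharP.charP_iff_prime_eq_zero Fact.out).2 hp
    exact sum_pow_char_pow p n s f

theorem flat_of_flat {A B A' B' : Type u} [CommRing A] [CommRing B] [CommRing A'] [CommRing B']
    {φ : A →+* B} {φ' : A' →+* B'} {α : A →+* A'} {β : B →+* B'} (hsq : φ'.comp α = β.comp φ)
    (hpA : (p : A) = 0) (hp : (p : B) = 0)
    (hA : Function.Bijective fun s : A' => s ^ p) (hB : Function.Bijective fun s : B' => s ^ p)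
    (hα : PowMem p α) (hβ : PowMem p β) (hker : RingHom.ker β ≤ nilradical B)
    (hφ : φ.Flat) : φ'.Flat := by
  algebraize [φ, φ']
  have hsq' : ∀ a, φ' (α a) = β (φ a) := fun a => RingHom.congr_fun hsq a
  have hpB : (p : B') = 0 := by rw [← map_natCast β, hp, map_zero]
  rw [show φ'.Flat ↔ Module.Flat A' B' from Iff.rfl, Module.Flat.iff_forall_isTrivialRelation]
  intro l r x h
  have hrx : ∀ i, ∃ (n : ℕ) (a : A) (b : B), α a = r i ^ p ^ n ∧ β b = x i ^ p ^ n := fun i => by
    obtain ⟨n₁, a, ha⟩ := hα (r i)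
    obtain ⟨n₂, b, hb⟩ := hβ (x i)
    refine ⟨n₁ + n₂, a ^ p ^ n₂, b ^ p ^ n₁, ?_, ?_⟩
    · rw [map_pow, ha, ← pow_mul, ← pow_add]
    · rw [map_pow, hb, ← pow_mul, ← pow_add, add_comm]
  choose ni a₀ b₀ ha₀ hb₀ using hrx
  let n := ∑ i, ni i
  have hn : ∀ i, ni i ≤ n := fun i => Finset.single_le_sum (fun j _ => Nat.zero_le (ni j)) (Finset.mem_univ i)
  let a : Fin l → A := fun i => a₀ i ^ p ^ (n - ni i)
  let b : Fin l → B := fun i => b₀ i ^ p ^ (n - ni i)
  have ha : ∀ i, α (a i) = r i ^ p ^ n := fun i => by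
    rw [map_pow, ha₀, ← pow_mul, ← pow_add, Nat.add_sub_cancel' (hn i)]
  have hb : ∀ i, β (b i) = x i ^ p ^ n := fun i => by
    rw [map_pow, hb₀, ← pow_mul, ← pow_add, Nat.add_sub_cancel' (hn i)]
  have h0 : β (∑ i, φ (a i) * b i) = 0 := by
    simp only [map_sum, map_mul, ← hsq', ha, hb, map_pow, ← mul_pow]
    rw [← sum_pow_pow hpB]
    have : ∑ i, φ' (r i) * x i = 0 := by
      refine Eq.trans (Finset.sum_congr rfl fun i _ => ?_) h
      rw [Algebra.smul_def]; rfl
    rw [this, zero_pow (pow_ne_zero _ (Fact.out : p.Prime).ne_zero)]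
  obtain ⟨k, hk⟩ := hker (RingHom.mem_ker.mpr h0)
  obtain ⟨m, hm⟩ : ∃ m, k ≤ p ^ m := ⟨k, (Nat.lt_pow_self (Fact.out : p.Prime).one_lt).le⟩
  have h1 : ∑ i, a i ^ p ^ m • b i ^ p ^ m = 0 := by
    have := pow_eq_zero_of_le hm hk
    rw [sum_pow_pow hp] at this
    refine Eq.trans (Finset.sum_congr rfl fun i _ => ?_) this
    rw [Algebra.smul_def, mul_pow, ← map_pow]; rfl
  obtain ⟨K, c, y, hy, hc⟩ := Module.Flat.isTrivialRelation_of_sum_smul_eq_zero (R := A) (M := B)
    (f := fun i => a i ^ p ^ m) (x := fun i => b i ^ p ^ m) h1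
  dsimp only at hy hc
  choose c' hc' using fun i j => pow_pow_surjective hA (n + m) (α (c i j))
  choose y' hy' using fun j => pow_pow_surjective hB (n + m) (β (y j))
  refine ⟨K, c', y', fun i => pow_pow_injective hB (n + m) ?_, fun j => pow_pow_injective hA (n + m) ?_⟩
  · show x i ^ p ^ (n + m) = (∑ j, c' i j • y' j) ^ p ^ (n + m)
    rw [sum_pow_pow hpB, pow_add, pow_mul, ← hb, ← map_pow, hy i, map_sum, ← pow_add]
    refine Finset.sum_congr rfl fun j _ => ?_
    show β (c i j • y j) = (φ' (c' i j) * y' j) ^ p ^ (n + m)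
    rw [Algebra.smul_def, map_mul, mul_pow, ← map_pow, hc', hy', hsq']
    rfl
  · show (∑ i, r i * c' i j) ^ p ^ (n + m) = 0 ^ p ^ (n + m)
    rw [zero_pow (pow_ne_zero _ (Fact.out : p.Prime).ne_zero)]
    have hA0 : (p : A') = 0 := by rw [← map_natCast α, hpA, map_zero]
    rw [sum_pow_pow hA0]
    refine Eq.trans ?_ ((congrArg α (hc j)).trans (map_zero α))
    rw [map_sum]
    refine Finset.sum_congr rfl fun i _ => ?_
    rw [mul_pow, map_mul, map_pow, hc', ha, pow_add, pow_mul]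

end Groth.Agent.Perfection
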