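import Groth.Agent.Perfection.Props
import Groth.Agent.Perfection.Ring

/-!
# Closed immersions and flat morphisms under perfection
-/

set_option autoImplicit false
set_option linter.unusedSectionVars false
universe u

open CategoryTheory CategoryTheory.Limits AlgebraicGeometry FrobSch TopologicalSpace

namespace Groth.Agent.Perfection

variable {p : ℕ} [Fact p.Prime] {X Y XP YP : Scheme.{u}}
  [IsCharP X p] [IsCharP Y p] [IsCharP XP p] [IsCharP YP p] {πX : XP ⟶ X} {πY : YP ⟶ Y}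
  (hX : FrobSch.IsPerfection πX p) (hY : FrobSch.IsPerfection πY p)
  {f : X ⟶ Y} {fP : XP ⟶ YP} (w : fP ≫ πY = πX ≫ f)
include w

lemma appLE_square (U : Y.Opens) (V : X.Opens) (e : V ≤ f ⁻¹ᵁ U) (e' : πX ⁻¹ᵁ V ≤ fP ⁻¹ᵁ (πY ⁻¹ᵁ U)) :
    (fP.appLE (πY ⁻¹ᵁ U) (πX ⁻¹ᵁ V) e').hom.comp (πY.app U).hom =
      (πX.app V).hom.comp (f.appLE U V e).hom := by
  rw [← CommRingCat.hom_comp, ← CommRingCat.hom_comp, Scheme.Hom.app_eq_appLE,
    Scheme.Hom.app_eq_appLE, Scheme.Hom.appLE_comp_appLE, Scheme.Hom.appLE_comp_appLE]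
  simp only [w]

include hX hY

theorem isClosedImmersion [IsClosedImmersion f] : IsClosedImmersion fP := by
  have : IsAffineHom fP := (isAffineHom_iff hX hY w).mp inferInstance
  rw [HasAffineProperty.iff_of_iSup_eq_top (P := @IsClosedImmersion) (f := fP)
      (fun U : Y.affineOpens => (⟨πY ⁻¹ᵁ U.1, (isAffineOpen_preimage_and_powMem hY U.2).1⟩ : YP.affineOpens))
      (by show ⨆ U : Y.affineOpens, πY ⁻¹ᵁ U.1 = ⊤
          rw [← Scheme.Hom.preimage_iSup, iSup_affineOpens_eq_top]; rfl)]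
  intro U
  have hVP := (isAffineOpen_preimage_and_powMem hY U.2).1
  refine ⟨hVP.preimage fP, ?_⟩
  have hs : Function.Surjective (fP.appLE (πY ⁻¹ᵁ U.1) (πX ⁻¹ᵁ (f ⁻¹ᵁ U.1))
      (preimage_preimage_eq w U.1).ge).hom := by
    refine surjective_of_surjective (appLE_square w U.1 _ le_rfl _) (bijective_pow_app hY.1 _)
      (bijective_pow_app hX.1 _) (isAffineOpen_preimage_and_powMem hX (U.2.preimage f)).2 ?_
    rw [← Scheme.Hom.app_eq_appLE]
    exact f.app_surjective U.1 U.2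
  have key : ∀ (W : YP.Opens) (W' : XP.Opens) (h : W' = fP ⁻¹ᵁ W),
      Function.Surjective (fP.appLE W W' h.le).hom → Function.Surjective (fP.app W) := by
    rintro W W' rfl h
    rwa [Scheme.Hom.app_eq_appLE]
  have h1 := key (πY ⁻¹ᵁ U.1) _ (preimage_preimage_eq w U.1).symm hs
  show Function.Surjective (fP ∣_ (πY ⁻¹ᵁ U.1)).appTop
  rw [morphismRestrict_appTop]
  have key2 : ∀ W : YP.Opens, W = πY ⁻¹ᵁ U.1 → Function.Surjective (fP.app W) := by
    rintro W rfl; exact h1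
  intro b
  obtain ⟨c, hc⟩ := (ConcreteCategory.bijective_of_isIso
    (XP.presheaf.map (eqToHom (image_morphismRestrict_preimage fP (πY ⁻¹ᵁ U.1) ⊤)).op)).2 b
  obtain ⟨d, rfl⟩ := key2 _ (Scheme.Opens.ι_image_top (πY ⁻¹ᵁ U.1)) c
  exact ⟨d, hc⟩

theorem flat [Flat f] : Flat fP := by
  rw [HasRingHomProperty.iff_exists_appLE (P := @Flat) (RingHom.Flat.stableUnderComposition.stableUnderCompositionWithLocalizationAway
    RingHom.Flat.holdsForLocalizationAway).left]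
  intro x
  obtain ⟨U, hU, hxU, -⟩ := exists_isAffineOpen_mem_and_subset (x := f (πX x)) (U := (⊤ : Y.Opens)) trivial
  obtain ⟨V, hV, hxV, hVU⟩ := exists_isAffineOpen_mem_and_subset (x := πX x) (U := f ⁻¹ᵁ U) hxU
  obtain ⟨hUP, hUpow⟩ := isAffineOpen_preimage_and_powMem hY hU
  obtain ⟨hVP, hVpow⟩ := isAffineOpen_preimage_and_powMem hX hV
  have e' : πX ⁻¹ᵁ V ≤ fP ⁻¹ᵁ (πY ⁻¹ᵁ U) := by
    rw [preimage_preimage_eq w]; exact πX.preimage_mono hVU
  refine ⟨⟨_, hUP⟩, ⟨_, hVP⟩, hxV, e', ?_⟩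
  exact flat_of_flat (appLE_square w U V hVU e') (natCast_eq_zero_app Y p U) (natCast_eq_zero_app X p V)
    (bijective_pow_app hY.1 _) (bijective_pow_app hX.1 _) hUpow hVpow
    (fun a ha => isNilpotent_of_app_eq_zero hX hV.isCompact ha)
    (HasRingHomProperty.appLE @Flat f ‹_› ⟨U, hU⟩ ⟨V, hV⟩ hVU)

end Groth.Agent.Perfection
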